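import Cfsg.Agent.H84.TwF4Cover
import Cfsg.Agent.H84.TitsLink
import Cfsg.Agent.H538.Ore.Hex

/-!
# Ore's property and four involutions for `²F₄(q)` and the Tits group (helper143)

The covering class of `H84` (S2463) is strongly real: `x = s h`, `s` of order 5 in the Suzuki Levi subgroup, inverted by an
involution `i` of it, `h` in the torus of the orthogonal Suzuki subgroup, inverted by its reflection.
-/

set_option autoImplicit false
set_option linter.unusedSectionVars false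

namespace Cfsg.Agent.H143.Ore

open Cfsg Cfsg.Agent.H538.Ore Cfsg.Agent.H777.Ore

/-! ### Suzuki groups -/

section Sz

open Cfsg.Agent.LieRecognition.SzMatrix

/-- In a Suzuki group there is an element `s` of order five, inverted by an involution, such that each element is a
product of two conjugates of `s`. -/
theorem sz_cover {P : Type*} [Group P] (h : Lie.IsoSuzuki P) : ∃ s : P, s ^ 5 = 1 ∧ SR s ∧
    ∀ l : P, ∃ a b : P, l = (a * s * a⁻¹) * (b * s * b⁻¹) := by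
  obtain ⟨F, _, _, m, hm, hF, ⟨f⟩⟩ := h
  have hfin : Finite ↥(Cfsg.Lie.Sz F (2 ^ (m + 1))) := inferInstance
  have h5 : Fact (Nat.Prime 5) := ⟨by norm_num⟩
  have hcard := (Cfsg.Agent.S1163.result hm hF).1
  have hdvd : 5 ∣ Nat.card ↥(Cfsg.Lie.Sz F (2 ^ (m + 1))) := by
    rw [hcard]; exact dvd_mul_of_dvd_right (Cfsg.Agent.H84.SzLevi.five_dvd m) _
  obtain ⟨x, hx⟩ := exists_prime_orderOf_dvd_card' 5 hdvd
  have hx1 : x ≠ 1 := by
    rintro rfl
    rw [orderOf_one] at hx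
    omega
  have hreal : ∃ i, i * i = 1 ∧ i * x * i = x⁻¹ := by
    rcases Cfsg.Agent.H147.Sz.real hm hF x hx1 with ⟨-, i, -, hi, h⟩ | ⟨a, b, h⟩
    · exact ⟨i, hi, h⟩
    · exfalso
      obtain ⟨c, hc⟩ := isConj_iff.1 h
      have h4 : (good hF).u a b ^ 4 = 1 := by
        rw [Cfsg.Agent.H84.SzLevi.four_eq, Cfsg.Agent.H147.Sz.u_sq, Cfsg.Agent.H147.Sz.u_sq, zero_mul,
          (good hF).u_zero]
      rw [← hc, conj_pow] at h4
      have h5 : x ^ 4 = 1 := by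
        have e : x ^ 4 = c⁻¹ * (c * x ^ 4 * c⁻¹) * c := by group
        rw [e, h4]; group
      have h6 := orderOf_dvd_of_pow_eq_one h5
      rw [hx] at h6
      omega
  obtain ⟨i, hi, hxi⟩ := hreal
  have hii : i⁻¹ = i := inv_eq_of_mul_eq_one_left hi
  have key : ∀ l : ↥(Cfsg.Lie.Sz F (2 ^ (m + 1))), ∃ a b, l = (a * x * a⁻¹) * (b * x * b⁻¹) := by
    intro l
    by_cases hl : l = 1
    · refine ⟨1, i, ?_⟩
      rw [hl, hii, hxi]; group
    · exact Cfsg.Agent.S2457.result m hm hF x (by rw [hx]; norm_num) l hl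
  refine ⟨f.symm x, ?_, ⟨f.symm i, ?_, ?_⟩, ?_⟩
  · rw [← map_pow, ← hx, pow_orderOf_eq_one, map_one]
  · rw [← map_mul, hi, map_one]
  · rw [← map_inv, ← map_mul, ← map_mul, hii, hxi, map_inv]
  · intro l
    obtain ⟨a, b, hab⟩ := key (f l)
    refine ⟨f.symm a, f.symm b, ?_⟩
    have := congrArg f.symm hab
    simpa using this

end Sz

/-! ### the Levi subgroup of `²F₄(q)` -/

section Full

open Cfsg.Agent.SplitTwo Cfsg.Agent.SplitTwo.ZS Cfsg.Agent.TitsThree.RankTwoZ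
open Cfsg.Agent.KFacts.TwF4 Cfsg.Agent.KFacts.TwF4.Arc Cfsg.Agent.KFacts.TwF4.Inv
open Cfsg.Agent.H84.TwF4Two Cfsg.Agent.H67.TwFFourOdd Cfsg.Agent.H67.RankTwo Cfsg.Agent.H67.RankOneId
open Cfsg.Agent.H84.GaussTwF4

universe u

variable {F : Type*} [Field F] {σ : F →+* F} {G : Type u} [Group G] (S : Full σ G)

theorem LL_cover [Finite F] [Finite G] {k : ℕ} (hk : 2 ≤ k) (hF : Nat.card F = 2 ^ k) : ∃ s ∈ LL S, s ^ 5 = 1 ∧
    (∃ i ∈ LL S, i * i = 1 ∧ i * s * i⁻¹ = s⁻¹) ∧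
    ∀ l ∈ LL S, ∃ a ∈ LL S, ∃ b ∈ LL S, l = (a * s * a⁻¹) * (b * s * b⁻¹) := by
  have h := LL_iso S hk hF
  rw [LJ_eq] at h
  obtain ⟨s, hs, ⟨i, hi, his⟩, hc⟩ := sz_cover h
  refine ⟨s, s.2, congrArg Subtype.val hs, ⟨i, i.2, congrArg Subtype.val hi, congrArg Subtype.val his⟩, fun l hl => ?_⟩
  obtain ⟨a, b, hab⟩ := hc ⟨l, hl⟩
  exact ⟨a, a.2, b, b.2, congrArg Subtype.val hab⟩

/-- the reflection orthogonal to the Levi subgroup -/
def np : G := S.n1 * (S.n2 * (S.n1 * (S.n2 * (S.n1 * (S.n2 * S.n1)))))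

theorem pal7 {H : Type*} [Group H] {n m : H} (hn : n * n = 1) (hm : m * m = 1) :
    n * (m * (n * (m * (n * (m * n))))) * (n * (m * (n * (m * (n * (m * n)))))) = 1 := by
  have hn' : ∀ x, n * (n * x) = x := fun x => by rw [← mul_assoc, hn, one_mul]
  have hm' : ∀ x, m * (m * x) = x := fun x => by rw [← mul_assoc, hm, one_mul]
  simp only [mul_assoc, hn', hm', hn]

theorem np_sq : np S * np S = 1 := pal7 S.n1_sq S.n2_sq

theorem np_e (a : ZMod 8) (p u : F) : np S * S.e a p u * (np S)⁻¹ = S.e (-a) p u := by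
  have h1 := S.n1_e
  have h2 := S.n2_e
  have e : np S * S.e a p u * (np S)⁻¹ = S.n1 * (S.n2 * (S.n1 * (S.n2 * (S.n1 * (S.n2 * (S.n1 * S.e a p u * S.n1⁻¹) *
      S.n2⁻¹) * S.n1⁻¹) * S.n2⁻¹) * S.n1⁻¹) * S.n2⁻¹) * S.n1⁻¹ := by
    unfold np; group
  rw [e, h1, h2, h1, h2, h1, h2, h1]
  have : ∀ a : ZMod 8, 5 - (4 - (5 - (4 - (5 - (4 - (5 - a)))))) = -a := by decide
  rw [this]

theorem np_comm {x : G} (hx : x ∈ LL S) : np S * x = x * np S := by
  have : LL S ≤ Subgroup.centralizer {np S} := by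
    refine sup_le ?_ ?_
    · intro y hy
      obtain ⟨p, u, rfl⟩ := (S.mem_XZ_even 4 y).1 hy
      rw [Subgroup.mem_centralizer_singleton_iff]
      have h := np_e S 4 p u
      rw [show (-4 : ZMod 8) = 4 by decide] at h
      exact (mul_inv_eq_iff_eq_mul.1 h).symm
    · intro y hy
      obtain ⟨p, u, rfl⟩ := (S.mem_XZ_even 0 y).1 hy
      rw [Subgroup.mem_centralizer_singleton_iff]
      have h := np_e S 0 p u
      rw [neg_zero] at h
      exact (mul_inv_eq_iff_eq_mul.1 h).symm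
  exact (Subgroup.mem_centralizer_singleton_iff.1 (this hx)).symm

theorem np_h (d : Fˣ) : np S * S.h 1 d * (np S)⁻¹ = S.h 1 d⁻¹ := by
  have h1 := S.n1_h
  have h2 := S.n2_h
  have hs : Units.map (σ : F →* F) (Units.map (σ : F →* F) d) = d * d := by
    ext
    have := S.sq d
    rw [pow_two] at this
    simpa using this
  have e : np S * S.h 1 d * (np S)⁻¹ = S.n1 * (S.n2 * (S.n1 * (S.n2 * (S.n1 * (S.n2 * (S.n1 * S.h 1 d * S.n1⁻¹) *
      S.n2⁻¹) * S.n1⁻¹) * S.n2⁻¹) * S.n1⁻¹) * S.n2⁻¹) * S.n1⁻¹ := by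
    unfold np; group
  rw [e, h1, h2, h1, h2, h1, h2, h1]
  congr 1
  · simp [hs]
  · simp [hs]

/-- the class of `s h 1 d` is strongly real -/
theorem sr_of {s i : G} (hs : s ∈ LL S) (hi : i ∈ LL S) (hii : i * i = 1) (his : i * s * i⁻¹ = s⁻¹) (d : Fˣ) :
    SR (s * S.h 1 d) := by
  refine ⟨i * np S, ?_, ?_⟩
  · calc i * np S * (i * np S) = i * (np S * i) * np S := by group
      _ = 1 := by rw [np_comm S hi, ← mul_assoc, hii, one_mul, np_sq]
  · have hinv : S.h 1 d⁻¹ = (S.h 1 d)⁻¹ := by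
      apply eq_inv_of_mul_eq_one_left
      rw [S.h_mul, one_mul, inv_mul_cancel, S.h_one]
    calc i * np S * (s * S.h 1 d) * (i * np S)⁻¹ = i * (np S * s) * S.h 1 d * (np S)⁻¹ * i⁻¹ := by group
      _ = i * s * (np S * S.h 1 d * (np S)⁻¹) * i⁻¹ := by rw [np_comm S hs]; group
      _ = i * s * (S.h 1 d⁻¹ * i⁻¹) := by rw [np_h]; group
      _ = i * s * (i⁻¹ * S.h 1 d⁻¹) := by rw [h_comm_LL d⁻¹ (inv_mem hi)]
      _ = (i * s * i⁻¹) * S.h 1 d⁻¹ := by group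
      _ = s⁻¹ * (S.h 1 d)⁻¹ := by rw [his, hinv]
      _ = (S.h 1 d * s)⁻¹ := by group
      _ = (s * S.h 1 d)⁻¹ := by rw [h_comm_LL d hs]

end Full

/-! ### `²F₄(q)` -/

section Main

open Cfsg.Agent.KFacts.TwF4 Cfsg.Agent.H84.GaussTwF4
open Cfsg.Agent.KFacts.TwF4.Inst Cfsg.Agent.ChevalleyStructure.TwF4.TwistedFix
open Cfsg.Lie Cfsg.Agent.H84.TwF4Cover

theorem th_2f4 {K : Type*} [Field K] [Fintype K] {m : ℕ} (hm : 1 ≤ m) (hK : Fintype.card K = 2 ^ (2 * m + 1)) :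
    Th ↥(twistedF4 K (2 ^ m)) := by
  have hchar := Cfsg.Agent.ChevalleyStructure.TwF4.Twisted.charP_two hK
  obtain ⟨φ, hφ⟩ := exists_rln hK
  have hfin : Finite (GL chevF4.Idx K) := inferInstance
  have hq : 2 ^ 3 ≤ 2 ^ (2 * m + 1) := Nat.pow_le_pow_right (by norm_num) (by omega)
  have hcard : Nat.card Kˣ = 2 ^ (2 * m + 1) - 1 := by rw [Nat.card_units, Nat.card_eq_fintype_card, hK]
  obtain ⟨s, hs, hs5, ⟨i, hi, hii, his⟩, hcov⟩ := Cfsg.Agent.H143.Ore.LL_cover (full hK hφ) (k := 2 * m + 1) (by omega)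
    (by rw [Nat.card_eq_fintype_card, hK])
  obtain ⟨d, hd⟩ : ∃ d : Kˣ, d ≠ 1 := by
    classical
    have h1 : 1 < Fintype.card Kˣ := by
      rw [Fintype.card_units, hK]
      omega
    exact Fintype.exists_ne_of_one_lt_card h1 1
  have hd5 : d ^ 5 ≠ 1 := by
    intro h
    have h1 := orderOf_dvd_of_pow_eq_one h
    have h2 := orderOf_dvd_natCard d
    rw [hcard] at h2
    rcases (Nat.dvd_prime (by norm_num : Nat.Prime 5)).1 h1 with h3 | h3
    · exact hd (orderOf_eq_one_iff.1 h3)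
    · rw [h3] at h2
      exact five_not_dvd m h2
  exact ⟨⟨s * (full hK hφ).h 1 d, sr_of (full hK hφ) hs hi hii his d, fun g hg => cover hs hs5 hcov hd5 hg⟩⟩

theorem th_iso2F4 {M : Type*} [Group M] (h : Cfsg.Lie.Iso2F4 M) : Th M := by
  obtain ⟨K, _, _, m, hm, hK, ⟨f⟩⟩ := h
  exact (th_2f4 hm hK).congr f.symm

theorem ore_2f4 {M : Type*} [Group M] (h : Cfsg.Lie.Iso2F4 M) : AllC M := (th_iso2F4 h).allC

theorem four_2f4 {M : Type*} [Group M] (h : Cfsg.Lie.Iso2F4 M) : Inv4 M := (th_iso2F4 h).inv4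

end Main

/-! ### the Tits group -/

section Tits

open Cfsg.Agent.ChevalleyStructure.Tits.Pack Cfsg.Agent.ChevalleyStructure.Tits.Data
  Cfsg.Agent.ChevalleyStructure.Tits.Cert Cfsg.Agent.ChevalleyStructure.Tits.Rank2
  Cfsg.Agent.ChevalleyStructure.Tits.Sat Cfsg.Agent.ChevalleyStructure.Tits.Final
  Cfsg.Agent.ChevalleyStructure.Tits.Mat Cfsg.Agent.ChevalleyStructure.Tits.Order
  Cfsg.Agent.ChevalleyStructure.Tits.Table Cfsg.Agent.ChevalleyStructure.Tits.Main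
open Cfsg.Agent.H246.TitsComp hiding go go_ok go_zero go_succ_even go_succ_odd sound
open Cfsg.Agent.H84.TitsCovData Cfsg.Agent.H84.TitsCovChk Cfsg.Agent.H84.TitsCov Cfsg.Agent.H84.TitsConj

theorem n99 : yH 9 * yH 9 = 1 := by
  have h := n2n2 Sat_yH
  exact h

theorem y7_four : yH 7 * yH 7 * (yH 7 * yH 7) = 1 := by
  have h := WH_eq (a := [7, 7, 7, 7]) (b := []) (by decide) (by decide) (by decide +kernel)
  unfold WH at h
  simpa [mul_assoc] using h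

theorem f1_eq : f1 = yH 9 * (yH 7 * yH 7) := by
  unfold f1 WH
  simp only [List.map_cons, List.map_nil, List.prod_cons, List.prod_nil, mul_one]

theorem f1_inv : yH 9 * f1 * (yH 9)⁻¹ = f1⁻¹ := by
  have h1 : (yH 9)⁻¹ = yH 9 := inv_eq_of_mul_eq_one_left n99
  have h2 : (yH 7 * yH 7)⁻¹ = yH 7 * yH 7 := inv_eq_of_mul_eq_one_left y7_four
  rw [f1_eq, mul_inv_rev, h1, h2, ← mul_assoc, n99, one_mul]

theorem tits_result (K : Subgroup (Matrix.GeneralLinearGroup I52 (ZMod 2))) (hK : K = H0) (hF : ∀ t ∈ K, t ≠ 1 → Form t)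
    (h9 : ∀ χ : H0 →* ℤˣ, χ (yH 7) = -1 → χ (yH 9) = 1) :
    Th (commutator K) := by
  subst hK
  obtain ⟨χ, h0, h1⟩ := exists_chi
  have h7 := h1 7 (by norm_num) (by norm_num)
  have hm := mem_commutator_iff χ h7
  have hf1 : f1 ∈ commutator H0 := (hm f1).2 (O5_sign χ O5_f1)
  have hy9 : yH 9 ∈ commutator H0 := (hm _).2 (h9 χ h7)
  refine ⟨⟨⟨f1, hf1⟩, ⟨⟨yH 9, hy9⟩, Subtype.ext n99, Subtype.ext f1_inv⟩, ?_⟩⟩
  intro g hg
  have h3 : ((g : H0) : Matrix.GeneralLinearGroup I52 (ZMod 2)) ≠ 1 := fun h => hg (Subtype.ext (Subtype.ext h))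
  obtain ⟨a, ha, b, hb, h⟩ := cover_H0 g.2 (hF _ (g : H0).2 h3)
  exact ⟨⟨a, ha⟩, ⟨b, hb⟩, Subtype.ext h⟩

/-- the reflection `n₂` lies in the Tits group -/
theorem chi_nine (χ : H0 →* ℤˣ) (_h7 : χ (yH 7) = -1) : χ (yH 9) = 1 := by
  have h : O5 f1 := O5_f1
  have h1 := O5_sign χ h
  rw [f1_eq, map_mul, map_mul] at h1
  rcases Int.units_eq_one_or (χ (yH 7)) with h3 | h3 <;> rw [h3] at h1 <;> simpa using h1

theorem th_tits : Th Cfsg.Lie.TitsGroup := by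
  obtain ⟨φ, hφ⟩ := Cfsg.Agent.ChevalleyStructure.TwF4.TwistedFix.exists_rln Cfsg.Agent.H84.TitsLink.hK0
  refine tits_result T0 T0_eq_H0 ?_ chi_nine
  intro t ht ht1
  obtain ⟨k, w, hw, v, hv, h⟩ := Cfsg.Agent.H84.TitsLink.form_of hφ (t := ⟨t, ht⟩) (fun h => ht1 (congrArg Subtype.val h))
  have hk : Cfsg.Agent.H84.TitsLink.cg k ∈ H0 := by rw [← T0_eq_H0]; exact k.2
  exact ⟨Cfsg.Agent.H84.TitsLink.cg k, hk, w, hw, v, hv, h⟩

theorem th_transfer {Γ : Type*} [Group Γ] (K : Subgroup Γ) {M : Type*} [Group M]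
    (f : M ≃* commutator K) (h : Th (commutator K)) : Th M := h.congr f.symm

theorem th_isoTits {M : Type*} [Group M] (h : Cfsg.Lie.IsoTits M) : Th M := by
  obtain ⟨f⟩ : Nonempty (M ≃* Cfsg.Lie.TitsGroup) := h
  exact th_transfer (Cfsg.Lie.twistedF4 (ZMod 2) 1) f th_tits

theorem ore_tits {M : Type*} [Group M] (h : Cfsg.Lie.IsoTits M) : AllC M := (th_isoTits h).allC

theorem four_tits {M : Type*} [Group M] (h : Cfsg.Lie.IsoTits M) : Inv4 M := (th_isoTits h).inv4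

end Tits

end Cfsg.Agent.H143.Ore
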